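/-
Maximality of the subfield subgroups of the orthogonal groups, in dimension at least eleven.
-/
import Mathlib
import Cfsg.Agent.Lib.Classical.Sub.OCore11
import Cfsg.Agent.Lib.Classical.Sub.OMain

set_option autoImplicit false
set_option linter.unusedSectionVars false

namespace Cfsg.Agent.Lib.Classical.Sub.OMain11

open scoped Matrix MatrixGroups
open Module Cfsg Cfsg.Geo QuadraticMap
open Cfsg.Agent.Lib.Classical.Orth.Basic
open Cfsg.Agent.Lib.Classical.Orth.Siegel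
open Cfsg.Agent.Lib.Classical.Orth.Simple
open Cfsg.Agent.Lib.Classical.Geo.OPts
open Cfsg.Agent.Lib.Classical.Sub.Rat
open Cfsg.Agent.Lib.Classical.Sub.OBase
open Cfsg.Agent.Lib.Classical.Sub.OElts
open Cfsg.Agent.Lib.Classical.Sub.OLow
open Cfsg.Agent.Lib.Classical.Sub.OCore
open Cfsg.Agent.Lib.Classical.Sub.OCore11
open Cfsg.Agent.Lib.Classical.Sub.OMain
open Cfsg.Agent.Lib.Classical.Geo.UPair (not_mem_singleton_symm)
open Cfsg.Agent.Lib.Classical.Geo.Basic (mulVec_inv_mulVec inv_mulVec_mulVec mulVec_injective)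

variable {ι : Type} [Fintype ι] [DecidableEq ι] {F : Type*} [Field F] [Fintype F]
  {Q : QuadraticForm F (ι → F)} {F₀ : Subfield F}

local notation "Mt" => Matrix ι ι F

set_option quotPrecheck false in
local notation "𝔣" => polar (⇑Q)

/-- **Maximality of the subfield subgroups of the orthogonal groups.** -/
theorem isMaximal_rat11 (hQ : (polarBilin Q).Nondegenerate) (hn : 11 ≤ Fintype.card ι) {r : ℕ} (hr : r.Prime)
    (hc : Fintype.card F = Nat.card F₀ ^ r) (P : GL ι F) (hP : IsQuadFormRationalStructure (⇑Q) F₀ P) :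
    IsMaximalIn (omegaGL (⇑Q)) (subfieldSubgroup F₀ P ⊓ omegaGL (⇑Q)) := by
  classical
  have hn5 : 5 ≤ Fintype.card ι := by omega
  haveI : Nonempty ι := by
    apply Fintype.card_pos_iff.1
    omega
  set Q' := QP Q P with hQ'def
  have hQ' : (polarBilin Q').Nondegenerate := QP_nondeg hQ P
  have hR : RatQ Q' F₀ := fun x => hP (lV x) (fun i => (x i).2)
  have hne : F₀ ≠ ⊤ := Cfsg.Agent.Lib.Classical.Asch.MaxCases.subfield_ne_top hr hc
  set H := (Matrix.GeneralLinearGroup.map (F₀.subtype : F₀ →+* F)).range ⊔ scalars ι F with hH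
  have hmem : ∀ g : GL ι F, g ∈ subfieldSubgroup F₀ P ↔ P⁻¹ * g * P ∈ H := by
    intro g
    constructor
    · rintro ⟨h, hh, rfl⟩
      simpa [MulAut.conj_apply, mul_assoc] using hh
    · intro h
      exact ⟨_, h, by simp [MulAut.conj_apply, mul_assoc]⟩
  have hiso : ∀ g : GL ι F, g ∈ Cfsg.isometryGroup F (⇑Q') ↔ P * g * P⁻¹ ∈ Cfsg.isometryGroup F (⇑Q) := by
    intro g
    rw [mem_isometryGroup_iff, mem_isometryGroup_iff]
    have hP2 : ∀ x : ι → F, (P * g * P⁻¹ : GL ι F).val *ᵥ x = (P : Mt) *ᵥ ((g : Mt) *ᵥ (((P⁻¹ : GL ι F) : Mt) *ᵥ x)) := by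
      intro x
      rw [Matrix.mulVec_mulVec, Matrix.mulVec_mulVec, ← Units.val_mul, ← Units.val_mul]
    constructor
    · intro h x
      rw [hP2]
      have h1 := h (((P⁻¹ : GL ι F) : Mt) *ᵥ x)
      rw [hQ'def, QP_apply, QP_apply, mulVec_inv_mulVec] at h1
      exact h1
    · intro h x
      have h1 := h ((P : Mt) *ᵥ x)
      rw [hP2, inv_mulVec_mulVec] at h1
      exact h1
  -- the conjugates of Eichler elements
  have hrat_H : ∀ a b : ι → F₀, ∀ (hz : Q' (lV a) = 0) (hb : polar (⇑Q') (lV a) (lV b) = 0), eG hz hb ∈ H := by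
    intro a b hz hb
    apply Cfsg.Agent.Lib.Classical.Sub.Lines.mem_of_lines
    intro x _
    refine ⟨1, x + rv hR a x • b - rv hR b x • a - (qv hR b * rv hR a x) • a, one_ne_zero, ?_⟩
    rw [eG_mulVec, one_smul]
    rfl
  have hΩ : ∀ {z b : ι → F} (hz : Q' z = 0) (hb : polar (⇑Q') z b = 0),
      P * eG hz hb * P⁻¹ ∈ omegaGL (⇑Q) := by
    intro z b hz hb
    have hz' : Q ((P : Mt) *ᵥ z) = 0 := hz
    have hb' : 𝔣 ((P : Mt) *ᵥ z) ((P : Mt) *ᵥ b) = 0 := by
      rw [← polar_QP]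
      exact hb
    rw [conj_eG P hz hb rfl rfl hz' hb']
    exact eG_mem_omegaGL hQ hn5 _ _
  refine ⟨?_, ?_⟩
  · -- strictness
    refine lt_of_le_not_ge inf_le_right fun h => ?_
    obtain ⟨z, b, hz, hb, hg⟩ := exists_not_mem hQ' hR (by omega) hne
    have h1 := (hmem _).1 (h (hΩ hz hb)).1
    have h2 : P⁻¹ * (P * eG hz hb * P⁻¹) * P = eG hz hb := by group
    rw [h2] at h1
    exact hg h1
  intro M hHM hMS
  let M' : Subgroup (GL ι F) := M.map (MulAut.conj P⁻¹).toMonoidHom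
  have hM' : ∀ g, g ∈ M' ↔ P * g * P⁻¹ ∈ M := by
    intro g
    constructor
    · rintro ⟨m, hm, rfl⟩
      simpa [MulAut.conj_apply, mul_assoc] using hm
    · intro hg
      exact ⟨_, hg, by simp [MulAut.conj_apply, mul_assoc]⟩
  have hM'S : M' ≤ Cfsg.isometryGroup F (⇑Q') := by
    intro g hg
    rw [hiso]
    exact omegaGL_le_iso (hMS ((hM' g).1 hg))
  have hrat : HasRatO Q' M' F₀ := by
    intro a b hz hb
    refine ⟨hz, hb, ?_⟩
    rw [hM']
    apply hHM
    refine ⟨(hmem _).2 ?_, hΩ hz hb⟩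
    have h2 : P⁻¹ * (P * eG hz hb * P⁻¹) * P = eG hz hb := by group
    rw [h2]
    exact hrat_H a b hz hb
  rcases core11 hQ' hR hrat hM'S hn hr hc with h | h
  · left
    apply le_antisymm _ hHM
    intro g hg
    refine ⟨(hmem _).2 (h _ ?_), hMS hg⟩
    rw [hM']
    convert hg using 1
    group
  · right
    apply le_antisymm hMS
    apply omegaGL_le hQ hn5
    intro y hy
    have hPy : (P : Mt) *ᵥ (((P⁻¹ : GL ι F) : Mt) *ᵥ y) = y := mulVec_inv_mulVec P y
    have hz : Q' (((P⁻¹ : GL ι F) : Mt) *ᵥ y) = 0 := by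
      rw [hQ'def, QP_apply, hPy]
      exact hy
    refine ⟨hy, fun b hb => ?_⟩
    have hPb : (P : Mt) *ᵥ (((P⁻¹ : GL ι F) : Mt) *ᵥ b) = b := mulVec_inv_mulVec P b
    have hb' : polar (⇑Q') (((P⁻¹ : GL ι F) : Mt) *ᵥ y) (((P⁻¹ : GL ι F) : Mt) *ᵥ b) = 0 := by
      rw [hQ'def, polar_QP, hPy, hPb]
      exact hb
    have h1 := (hM' _).1 (h (eG_mem_omegaGL hQ' hn5 hz hb'))
    rwa [conj_eG P hz hb' hPy hPb hy hb] at h1

end Cfsg.Agent.Lib.Classical.Sub.OMain11
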